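import Cfsg.Agent.Lib.HN.Models
import Cfsg.Agent.Lib.HN.Upper
import Cfsg.Agent.Lib.HN.Sub100.Table
import Cfsg.Agent.Lib.Concrete.SporHS

import Cfsg.Prelude.Def_SporadicB

/-!
# The double cover of `HS` inside the double cover of `HS:2`
-/

set_option autoImplicit false
set_option maxRecDepth 100000

namespace Cfsg.Lib.HN.Sub100

open MulAction

/-- The sign letters. -/
def signLett : ℕ → ℤˣ := lett 1 1 (-1) 1

theorem sign_exists : ∃ χ : PS →* ℤˣ, ∀ g < 7, χ (wgen relP g) = signLett g :=
  exists_wordHom (R := relP) signLett (lettersInv_lett (by decide)) (by decide +kernel)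
    (by decide +kernel)

/-- The sign. -/
noncomputable def χ : PS →* ℤˣ := Classical.choose sign_exists

theorem χ_val {w : List ℕ} (hw : lettersIn [0, 1, 2, 4, 5] w = true) :
    χ (val (wgen relP) w) = val signLett w := by
  rw [map_val]
  refine congrArg List.prod (List.map_congr_left fun g hg => Classical.choose_spec sign_exists g ?_)
  have := mem_of_lettersIn hw g hg
  simp only [List.mem_cons, List.not_mem_nil, or_false] at this
  omega

theorem tab_inv : LettersInv (tableLett tab 100 [0, 1, 2, 4, 5]) :=
  tableLett_inv perm_ok symS_P (linv_mem_of_small (by decide) (by decide))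

theorem π_exists : ∃ π : PS →* Equiv.Perm (Fin 100), ∀ g < 7,
    π (wgen relP g) = tableLett tab 100 [0, 1, 2, 4, 5] g :=
  exists_wordHom (R := relP) _ tab_inv (by decide +kernel) (by
    intro r hr
    rcases List.mem_append.1 hr with hr | hr
    · have hl : ∀ g ∈ r, g ∈ [0, 1, 2, 4, 5] := mem_of_lettersIn (List.all_eq_true.1
        (show EnumP.rels.all (lettersIn [0, 1, 2, 4, 5]) = true by decide +kernel) r hr)
      rw [val_tableLett hl]
      exact pperm_rel perm_ok symS_P hr hl
    · simp only [List.mem_cons, List.not_mem_nil, or_false] at hr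
      subst hr
      simp [tableLett])

/-- The action on a hundred points. -/
noncomputable def π : PS →* Equiv.Perm (Fin 100) := Classical.choose π_exists

theorem π_val {w : List ℕ} (hw : lettersIn [0, 1, 2, 4, 5] w = true) :
    π (val (wgen relP) w) = val (pperm tab 100) w := by
  have hw' := mem_of_lettersIn hw
  rw [map_val, ← val_tableLett hw']
  refine congrArg List.prod (List.map_congr_left fun g hg => Classical.choose_spec π_exists g ?_)
  have := hw' g hg
  simp only [List.mem_cons, List.not_mem_nil, or_false] at this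
  omega

theorem π_apply {w : List ℕ} (hw : lettersIn [0, 1, 2, 4, 5] w = true) (i : Fin 100) :
    (π (val (wgen relP) w) i).1 = twalk tab (winv w) i.1 := by
  rw [π_val hw, val_pperm perm_ok symS_P _ (mem_of_lettersIn hw)]

theorem eq_of_twalk {a b : List ℕ} (ha : lettersIn [0, 1, 2, 4, 5] a = true)
    (hb : lettersIn [0, 1, 2, 4, 5] b = true) (hab : ModelP.chainP.all (fun L =>
      Nat.beq (twalk ModelP.tabP (winv a) L.point) (twalk ModelP.tabP (winv b) L.point)) = true) :
    val (wgen relP) a = val (wgen relP) b := by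
  have ha' := mem_of_lettersIn ha
  have hb' := mem_of_lettersIn hb
  refine PS_base.2 _ _ fun L hL i hi => Fin.ext ?_
  rw [ψP_val ha', ψP_val hb', val_pperm ModelP.perm_ok symS_P _ ha',
    val_pperm ModelP.perm_ok symS_P _ hb', hi]
  simpa [Nat.beq_eq] using List.all_eq_true.1 hab L hL

/-- The square of the first generator. -/
abbrev zc : PS := wgen relP 0 * wgen relP 0

theorem zc_comm (g : PS) : Commute zc g := by
  have hg : g ∈ Subgroup.closure (wgen relP '' {i | i ∈ [0, 1, 2]}) := by
    rw [wgen_closure relP (S := [0, 1, 2])]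
    · trivial
    · intro i hi
      interval_cases i
      · exact Or.inl (by simp)
      · exact Or.inl (by simp)
      · exact Or.inl (by simp)
      · refine Or.inr ?_
        simpa using wgen_rel relP [3] (by simp)
  induction hg using Subgroup.closure_induction with
  | one => exact Commute.one_right _
  | mem y hy =>
    obtain ⟨i, hi, rfl⟩ := hy
    have h : ∀ j ∈ [0, 1, 2], lettersIn [0, 1, 2, 4, 5] [0, 0, j] = true ∧
        lettersIn [0, 1, 2, 4, 5] [j, 0, 0] = true ∧ ModelP.chainP.all (fun L =>
          Nat.beq (twalk ModelP.tabP (winv [0, 0, j]) L.point)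
            (twalk ModelP.tabP (winv [j, 0, 0]) L.point)) = true := by decide +kernel
    obtain ⟨h1, h2, h3⟩ := h i hi
    have := eq_of_twalk h1 h2 h3
    simp only [val_cons, val_nil, mul_one] at this
    rw [commute_iff_eq, zc, mul_assoc, this]
  | mul a b _ _ ha hb => exact ha.mul_right hb
  | inv a _ ha => exact ha.inv_right

theorem zc_ne : zc ≠ 1 := by
  intro h
  have h1 : (ψP zc ⟨0, by norm_num⟩).1 = 0 := by rw [h, map_one]; rfl
  rw [show zc = val (wgen relP) [0, 0] by simp [zc], ψP_val (by decide),
    val_pperm ModelP.perm_ok symS_P _ (by decide)] at h1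
  revert h1
  decide +kernel

/-- The kernel of the sign. -/
noncomputable abbrev Kχ : Subgroup PS := χ.ker

theorem zc_mem : zc ∈ Kχ := by
  rw [MonoidHom.mem_ker, show zc = val (wgen relP) [0, 0] by simp [zc], χ_val (by decide)]
  decide

theorem index_Kχ : Kχ.index = 2 := by
  have hsurj : Function.Surjective χ := by
    intro u
    rcases Int.units_eq_one_or u with rfl | rfl
    · exact ⟨1, map_one χ⟩
    · exact ⟨val (wgen relP) [2], by rw [χ_val (by decide)]; decide⟩
  rw [Subgroup.index_ker, MonoidHom.range_eq_top.2 hsurj, Subgroup.card_top,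
    Nat.card_eq_fintype_card, Fintype.card_units_int]

theorem card_Kχ : Nat.card Kχ = 88704000 := by
  have := Subgroup.card_mul_index Kχ
  rw [index_Kχ, PS_base.1] at this
  omega

/-- The image. -/
noncomputable abbrev G : Subgroup (Equiv.Perm (Fin 100)) := Kχ.map π

/-- The map onto the image. -/
noncomputable abbrev f : Kχ →* G := π.subgroupMap Kχ

theorem π_zc : π zc = 1 := by
  refine Equiv.ext fun i => Fin.ext ?_
  rw [show zc = val (wgen relP) [0, 0] by simp [zc], π_apply (by decide)]
  show _ = i.1
  revert i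
  decide +kernel

theorem chain_ok : baseOK tab 100 [0, 1, 2, 4, 5] chain = true := by decide +kernel

theorem gens_in_G : ∀ L ∈ chain, ∀ u ∈ L.U, val (pperm tab 100) u ∈ G := by
  intro L hL u hu
  have h : chain.all (fun L => L.U.all fun u => lettersIn [0, 1, 2, 4, 5] u &&
      decide (val signLett u = 1)) = true := by decide +kernel
  have h' := List.all_eq_true.1 (List.all_eq_true.1 h L hL) u hu
  simp only [Bool.and_eq_true, decide_eq_true_eq] at h'
  exact ⟨val (wgen relP) u, by rw [SetLike.mem_coe, MonoidHom.mem_ker, χ_val h'.1, h'.2],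
    π_val h'.1⟩

theorem card_G_ker : Nat.card G = 44352000 ∧ Nat.card f.ker = 2 := by
  have h1 : 44352000 ≤ Nat.card G := by
    rw [show (44352000 : ℕ) = baseSize chain by decide +kernel]
    exact (Nat.le_mul_of_pos_right _ Nat.card_pos).trans
      (base_le perm_ok symS_P chain_ok G gens_in_G)
  have h2 := Subgroup.card_mul_index f.ker
  rw [Subgroup.index_ker, MonoidHom.range_eq_top.2 (π.subgroupMap_surjective Kχ),
    Subgroup.card_top, card_Kχ] at h2
  have h3 : 2 ≤ Nat.card f.ker := by
    have : Nontrivial f.ker := by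
      refine ⟨⟨⟨⟨zc, zc_mem⟩, ?_⟩, 1, fun h => zc_ne (congrArg (fun k : f.ker => (k.1.1 : PS)) h)⟩⟩
      exact Subtype.ext π_zc
    exact Finite.one_lt_card
  constructor <;> nlinarith

/-- The tail of the chain. -/
noncomputable abbrev tail : List Level := chain.tail

/-- The stabiliser in the image, as generated by the second level. -/
noncomputable def H : Subgroup (Equiv.Perm (Fin 100)) :=
  Subgroup.closure {g | ∃ L ∈ tail, ∃ u ∈ L.U, g = val (pperm tab 100) u}

theorem trans (i : Fin 100) : ∃ g ∈ G, g 0 = i := by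
  have h : MulAction.orbit G (0 : Fin 100) = Set.univ := by
    refine Set.eq_univ_of_forall fun i => ?_
    have hs : (chain.head?.map fun L => Nat.beq L.point 0 && Nat.beq L.c 100 &&
        spanOK tab 100 L L.c 0) = some true := by decide +kernel
    have hall : ∀ j < 100, ∀ L ∈ chain.head?, L.O.getP (L.Pos.getP j) / CosetEnum.B / CosetEnum.B = j ∧
        L.Pos.getP j < 100 := by decide +kernel
    obtain ⟨L, hL⟩ : ∃ L, chain.head? = some L := by
      cases hc : chain.head? with
      | none => rw [hc] at hs; simp at hs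
      | some L => exact ⟨L, rfl⟩
    rw [hL] at hs
    simp only [Option.map_some, Option.some.injEq, Bool.and_eq_true, Nat.beq_eq] at hs
    obtain ⟨⟨hp, hc⟩, hsp⟩ := hs
    rw [hc] at hsp
    have hLc : L ∈ chain := List.mem_of_mem_head? hL
    have key : ∀ j, ∀ hj : j < 100, (⟨L.O.getP j / CosetEnum.B / CosetEnum.B,
        (spanOK_get hsp j (Nat.zero_le _) (by omega)).1⟩ : Fin 100) ∈ MulAction.orbit G (0 : Fin 100) := by
      intro j
      induction j using Nat.strong_induction_on with
      | _ j ih =>
        intro hj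
        obtain ⟨-, -, h0, hpos⟩ := spanOK_get hsp j (Nat.zero_le _) (by omega)
        rcases Nat.eq_zero_or_pos j with rfl | hj0
        · have e : (⟨L.O.getP 0 / CosetEnum.B / CosetEnum.B,
              (spanOK_get hsp 0 (Nat.zero_le _) (by omega)).1⟩ : Fin 100) = 0 :=
            Fin.ext ((h0 rfl).trans hp)
          rw [e]
          exact MulAction.mem_orbit_self _
        · obtain ⟨hlt, hk, hw⟩ := hpos (by omega)
          obtain ⟨⟨a, ha⟩, haq⟩ := ih _ hlt (by omega)
          have hu : L.U.getD (L.O.getP j % CosetEnum.B) [] ∈ L.U := by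
            rw [List.getD_eq_getElem?_getD, List.getElem?_eq_getElem hk]
            exact List.getElem_mem hk
          refine ⟨⟨_, G.mul_mem (gens_in_G L hLc _ hu) ha⟩, Fin.ext ?_⟩
          show (val (pperm tab 100) _ (a 0)).1 = _
          rw [show a 0 = _ from haq, val_pperm perm_ok symS_P _
            (lettersIn_of_baseOK chain_ok L hLc _ hu)]
          exact hw
    obtain ⟨h1, h2⟩ := hall i.1 i.2 L hL
    have := key _ h2
    rwa [show (⟨L.O.getP (L.Pos.getP i.1) / CosetEnum.B / CosetEnum.B, _⟩ : Fin 100) = i from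
      Fin.ext h1] at this
  obtain ⟨⟨g, hg⟩, hgi⟩ := h.ge (Set.mem_univ i)
  exact ⟨g, hg, hgi⟩

theorem stab_eq {g : Equiv.Perm (Fin 100)} : g ∈ G ∧ g 0 = 0 ↔ g ∈ H := by
  set A : Subgroup (Equiv.Perm (Fin 100)) := G ⊓ MulAction.stabilizer (Equiv.Perm (Fin 100)) (0 : Fin 100)
  have hle : H ≤ A := by
    refine (Subgroup.closure_le _).2 ?_
    rintro _ ⟨L, hL, u, hu, rfl⟩
    refine ⟨gens_in_G L (List.mem_of_mem_tail hL) u hu, ?_⟩
    have h : tail.all (fun L => L.U.all fun u => lettersIn [0, 1, 2, 4, 5] u &&
        Nat.beq (twalk tab (winv u) 0) 0) = true := by decide +kernel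
    have h' := List.all_eq_true.1 (List.all_eq_true.1 h L hL) u hu
    simp only [Bool.and_eq_true, Nat.beq_eq] at h'
    refine Fin.ext ?_
    show (val (pperm tab 100) u 0).1 = 0
    rw [val_pperm perm_ok symS_P _ (mem_of_lettersIn h'.1)]
    exact h'.2
  have hH : 443520 ≤ Nat.card H := by
    rw [show (443520 : ℕ) = baseSize tail by decide +kernel]
    exact (Nat.le_mul_of_pos_right _ Nat.card_pos).trans (base_le perm_ok symS_P
      (show baseOK tab 100 [0, 1, 2, 4, 5] tail = true by decide +kernel) H
      fun L hL u hu => Subgroup.subset_closure ⟨L, hL, u, hu, rfl⟩)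
  have hA : Nat.card A = 443520 := by
    have h := Subgroup.card_mul_index (MulAction.stabilizer G (0 : Fin 100))
    have horb : MulAction.orbit G (0 : Fin 100) = Set.univ := Set.eq_univ_of_forall fun i => by
      obtain ⟨g, hg, hgi⟩ := trans i
      exact ⟨⟨g, hg⟩, hgi⟩
    rw [MulAction.index_stabilizer, horb, Set.ncard_univ, Nat.card_fin, card_G_ker.1] at h
    let e : MulAction.stabilizer G (0 : Fin 100) ≃ A :=
      { toFun := fun g => ⟨g.1.1, g.1.2, g.2⟩
        invFun := fun g => ⟨⟨g.1, g.2.1⟩, g.2.2⟩
        left_inv := fun _ => rfl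
        right_inv := fun _ => rfl }
    rw [← Nat.card_congr e]
    omega
  have : H = A := Subgroup.eq_of_le_of_card_ge hle (hA ▸ hH)
  rw [this]
  exact Iff.rfl

/-- The orbit checks. -/
noncomputable def orbOK (l : List (ℕ × List ℕ)) : Bool :=
  (l.all fun p => Nat.blt p.1 100) && decide ((l.map Prod.fst).Nodup) &&
  ((tail.flatMap Level.U).all fun u => l.all fun p =>
    (l.map Prod.fst).contains (twalk tab (winv u) p.1)) &&
  match l, tail with
  | (b, _) :: _, L :: _ => l.all fun p =>
      lettersIn [0, 1, 2, 4, 5] (wprod L.U p.2) && Nat.beq (twalk tab (winv (wprod L.U p.2)) b) p.1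
  | _, _ => false

theorem orbit_card {l : List (ℕ × List ℕ)} (hl : orbOK l = true) (b : Fin 100)
    (hb : l.head?.map Prod.fst = some b.1) :
    (MulAction.orbit (MulAction.stabilizer G (0 : Fin 100)) b).ncard = l.length := by
  simp only [orbOK, Bool.and_eq_true, List.all_eq_true, decide_eq_true_eq, Nat.blt_eq,
    List.contains_iff_mem] at hl
  obtain ⟨⟨⟨hlt, hnd⟩, hcl⟩, hpath⟩ := hl
  have heq : MulAction.orbit (MulAction.stabilizer G (0 : Fin 100)) b =
      {i : Fin 100 | i.1 ∈ l.map Prod.fst} := by
    apply Set.Subset.antisymm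
    · rintro _ ⟨⟨⟨g, hg⟩, h0⟩, rfl⟩
      show (g b).1 ∈ l.map Prod.fst
      have hgH : g ∈ H := stab_eq.1 ⟨hg, h0⟩
      clear h0 hg
      have hmap : ∀ i : Fin 100, i.1 ∈ l.map Prod.fst → (g i).1 ∈ l.map Prod.fst := by
        rw [← Subgroup.mem_toSubmonoid, H, Subgroup.closure_toSubmonoid_of_finite] at hgH
        induction hgH using Submonoid.closure_induction with
        | one => exact fun i hi => hi
        | mul a c _ _ ha hc => exact fun i hi => ha _ (hc i hi)
        | mem y hy =>
          obtain ⟨L, hL, u, hu, rfl⟩ := hy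
          intro i hi
          obtain ⟨p, hp, hpi⟩ := List.mem_map.1 hi
          rw [val_pperm perm_ok symS_P _ (lettersIn_of_baseOK chain_ok L (List.mem_of_mem_tail hL) u hu),
            ← hpi]
          exact hcl u (List.mem_flatMap.2 ⟨L, hL, hu⟩) p hp
      refine hmap b ?_
      cases l with
      | nil => simp at hb
      | cons p l =>
        simp only [List.head?_cons, Option.map_some, Option.some.injEq] at hb
        exact List.mem_map.2 ⟨p, by simp, hb⟩
    · intro i hi
      obtain ⟨p, hp, hpi⟩ := List.mem_map.1 hi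
      rcases l with _ | ⟨⟨b', w0⟩, l'⟩
      · simp at hp
      rcases htl : tail with _ | ⟨L, Ls⟩
      · rw [htl] at hpath; simp at hpath
      · rw [htl] at hpath
        simp only [List.head?_cons, Option.map_some, Option.some.injEq] at hb
        simp only [List.all_eq_true, Bool.and_eq_true, Nat.beq_eq] at hpath
        obtain ⟨hlw, hw⟩ := hpath p hp
        have hy : LettersInv fun g => π (wgen relP g) := fun g => by
          show π (wgen relP (linv g)) = _
          rw [wgen_inv relP g, map_inv]
        have hmem : π (val (wgen relP) (wprod L.U p.2)) ∈ H := by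
          rw [map_val]
          refine wprod_mem hy (fun u hu => ?_) _
          have hLt : L ∈ tail := by rw [htl]; simp
          have hul := lettersIn_of_baseOK chain_ok L (List.mem_of_mem_tail hLt) u hu
          rw [← map_val, π_val (List.all_eq_true.2 fun g hg =>
            List.any_eq_true.2 ⟨g, hul g hg, Nat.beq_refl g⟩)]
          exact Subgroup.subset_closure ⟨L, hLt, u, hu, rfl⟩
        obtain ⟨hG, h0⟩ := stab_eq.2 hmem
        refine ⟨⟨⟨_, hG⟩, h0⟩, Fin.ext ?_⟩
        show (π (val (wgen relP) (wprod L.U p.2)) b).1 = i.1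
        rw [π_apply hlw, ← hb, hw, hpi]
  rw [heq, ← List.length_map (f := Prod.fst), ← List.toFinset_card_of_nodup hnd,
    ← Set.ncard_coe_finset, ← Set.ncard_image_of_injective _ Fin.val_injective]
  congr 1
  ext j
  simp only [Set.mem_image, Set.mem_ofPred_eq, Finset.mem_coe, List.mem_toFinset]
  constructor
  · rintro ⟨i, hi, rfl⟩; exact hi
  · intro hj
    obtain ⟨p, hp, rfl⟩ := List.mem_map.1 hj
    exact ⟨⟨p.1, hlt p hp⟩, hj, rfl⟩

theorem iso_G : Spor.IsoHS G := by
  classical
  refine Cfsg.Lib.Concrete.iso_HS_of_data (a := (0 : Fin 100))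
    (b := ⟨((orbB.head?.map Prod.fst).getD 0) % 100, Nat.mod_lt _ (by norm_num)⟩)
    (c := ⟨((orbC.head?.map Prod.fst).getD 0) % 100, Nat.mod_lt _ (by norm_num)⟩)
    { hcard := Fintype.card_fin 100
      trans := trans
      orbB := ?_
      orbC := ?_
      order := card_G_ker.1 }
  · rw [orbit_card (l := orbB) (by decide +kernel) _ (by decide +kernel)]
    decide +kernel
  · rw [orbit_card (l := orbC) (by decide +kernel) _ (by decide +kernel)]
    decide +kernel

/-- The double cover of `HS:2` contains a non-split double cover of `HS` with index two. -/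
theorem double_cover : Kχ.Normal ∧ Kχ.index = 2 ∧ IsNonsplitDoubleCover Kχ Spor.HS := by
  obtain ⟨e⟩ := iso_G
  obtain ⟨e5⟩ := Cfsg.Lib.Concrete.sporHS_equiv
  haveI : IsSimpleGroup ↥Spor.HS :=
    e5.isSimpleGroup_congr.2 Cfsg.Lib.Concrete.isHS_five.1
  haveI : IsSimpleGroup G := e.isSimpleGroup_congr.2 inferInstance
  have hzmem : (⟨zc, zc_mem⟩ : Kχ) ∈ f.ker := Subtype.ext π_zc
  have hzne : (⟨zc, zc_mem⟩ : Kχ) ≠ 1 := fun h => zc_ne (congrArg Subtype.val h)
  have hker : ∀ k ∈ f.ker, k = 1 ∨ k = ⟨zc, zc_mem⟩ := by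
    intro k hk
    have h2 := card_G_ker.2
    obtain ⟨a, b, hab, hu⟩ := Nat.card_eq_two_iff.1 h2
    have hall : ∀ x : f.ker, x = a ∨ x = b := fun x => by
      have : x ∈ ({a, b} : Set f.ker) := hu ▸ Set.mem_univ x
      simpa using this
    have h1 := hall 1
    have h3 := hall ⟨_, hzmem⟩
    have h4 := hall ⟨k, hk⟩
    have hne : (1 : f.ker) ≠ ⟨_, hzmem⟩ := fun h => hzne (congrArg Subtype.val h).symm
    rcases h1 with h1 | h1 <;> rcases h3 with h3 | h3 <;> rcases h4 with h4 | h4
    all_goals first
      | exact absurd (h1.trans h3.symm) hne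
      | exact Or.inl (congrArg Subtype.val (h4.trans h1.symm))
      | exact Or.inr (congrArg Subtype.val (h4.trans h3.symm))
  have hcenter : Subgroup.center Kχ = f.ker := by
    apply le_antisymm
    · intro k hk
      have hbot : Subgroup.center G = ⊥ :=
        ((inferInstance : (Subgroup.center G).Normal).eq_bot_or_eq_top).resolve_right fun h => by
          let _ : CommGroup G := { (inferInstance : Group G) with
            mul_comm := fun a b => (Subgroup.mem_center_iff.1 (h ▸ Subgroup.mem_top b) a) }
          have hp := IsSimpleGroup.prime_card (α := G)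
          rw [card_G_ker.1] at hp
          norm_num at hp
      rw [MonoidHom.mem_ker, ← Subgroup.mem_bot, ← hbot, Subgroup.mem_center_iff]
      intro g
      obtain ⟨h, rfl⟩ := π.subgroupMap_surjective Kχ g
      rw [← map_mul, ← map_mul, Subgroup.mem_center_iff.1 hk h]
    · intro k hk
      rw [Subgroup.mem_center_iff]
      intro g
      rcases hker k hk with rfl | rfl
      · rw [mul_one, one_mul]
      · exact Subtype.ext (zc_comm g.1).eq.symm
  refine ⟨inferInstance, index_Kχ, ?_, ?_, ?_⟩
  · rw [hcenter]; exact card_G_ker.2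
  · exact ⟨(QuotientGroup.quotientMulEquivOfEq hcenter).trans
      ((QuotientGroup.quotientKerEquivOfSurjective f (π.subgroupMap_surjective Kχ)).trans e)⟩
  · intro L hL
    rw [hcenter] at hL
    have hx : wgen relP 0 ∈ Kχ := by
      rw [MonoidHom.mem_ker, show wgen relP 0 = val (wgen relP) [0] by simp, χ_val (by decide)]
      decide
    have hidx : L.index = 2 := by rw [hL.index_eq_card, card_G_ker.2]
    haveI : L.Normal := Subgroup.normal_of_index_eq_two hidx
    have hsq := Subgroup.mul_self_mem_of_index_two hidx (⟨_, hx⟩ : Kχ)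
    exact hzne (Subgroup.disjoint_def.1 hL.disjoint hzmem hsq)

end Cfsg.Lib.HN.Sub100
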